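import Cfsg.Agent.H325.IF.Inv3

/-!
# S5719, orthogonal groups, `q` odd: fundamental involutions (helper325)

* `Vm_of_fund`, `finrank_Vm_of_fund` : the `-1` space of a fundamental involution;
* `fund_iff` : `g` is fundamental iff `g * g = 1` and `Vm g` has dimension `4`;
* `isConj_of_fund`, `fund_conj`.
-/

set_option autoImplicit false
set_option linter.unusedSectionVars false

namespace Cfsg.Agent.H325.IF

open QuadraticMap Module Cfsg.Agent.LieClassical.OrthCore Cfsg.Agent.LieClassical.OrthTrans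
open Cfsg.Agent.H989.Gs.Gen Cfsg.Agent.H989.Fx Cfsg.Agent.LieClassical
open Cfsg.Agent.H160.QSpin Cfsg.Agent.H160.QDisc
open Cfsg.Agent.UGT.U2.FOne.Orth (Four)

variable {F V : Type*} [Field F] [AddCommGroup V] [Module F V] {Q : QuadraticForm F V}

/-- four vectors of two perpendicular hyperbolic pairs are independent -/
theorem linInd_four {e₁ f₁ e₂ f₂ : V} (h : Four Q e₁ f₁ e₂ f₂) : LinearIndependent F ![e₁, f₁, e₂, f₂] := by
  obtain ⟨⟨a1, a2, a3⟩, ⟨b1, b2, b3⟩, c1, c2, c3, c4⟩ := h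
  have hs : ∀ u v : V, polar Q u v = polar Q v u := fun u v => polar_comm Q u v
  have h0 : ∀ u : V, Q u = 0 → polar Q u u = 0 := fun u hu => by rw [polar_self, hu, smul_zero]
  rw [Fintype.linearIndependent_iff]
  intro g hg
  rw [Fin.sum_univ_four] at hg
  simp only [Matrix.cons_val] at hg
  have key : ∀ w : V, g 0 * polar Q e₁ w + g 1 * polar Q f₁ w + g 2 * polar Q e₂ w + g 3 * polar Q f₂ w = 0 := by
    intro w
    have h1 : polar Q (g 0 • e₁ + g 1 • f₁ + g 2 • e₂ + g 3 • f₂) w = 0 := by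
      rw [hg, polar_zero_left]
    simpa only [polar_add_left, polar_smul_left, smul_eq_mul] using h1
  have k0 := key f₁
  have k1 := key e₁
  have k2 := key f₂
  have k3 := key e₂
  rw [h0 f₁ a2, hs e₂ f₁, c3, hs f₂ f₁, c4, a3] at k0
  rw [h0 e₁ a1, hs f₁ e₁, a3, hs e₂ e₁, c1, hs f₂ e₁, c2] at k1
  rw [h0 f₂ b2, c2, c4, b3] at k2
  rw [h0 e₂ b1, hs f₂ e₂, c1, c3, b3] at k3
  intro i
  fin_cases i
  · simpa using k0
  · simpa using k1
  · simpa using k2
  · simpa using k3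

theorem exists_four_comb {e₁ f₁ e₂ f₂ : V} (h : Four Q e₁ f₁ e₂ f₂) (v : V) :
    ∃ v', (polar Q e₁ v' = 0 ∧ polar Q f₁ v' = 0 ∧ polar Q e₂ v' = 0 ∧ polar Q f₂ v' = 0) ∧
      ∃ a b c d : F, v = v' + a • e₁ + b • f₁ + c • e₂ + d • f₂ := by
  obtain ⟨h1, h2, h3, h4, h5, h6⟩ := h
  refine ⟨OrthTrans.proj Q e₁ f₁ (OrthTrans.proj Q e₂ f₂ v), ⟨polar_proj_left h1 _, polar_proj_right h1 _, ?_, ?_⟩, ?_⟩
  · rw [polar_proj_of_perp h3 h5, polar_proj_left h2]
  · rw [polar_proj_of_perp h4 h6, polar_proj_right h2]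
  · refine ⟨polar Q f₁ (OrthTrans.proj Q e₂ f₂ v), polar Q e₁ (OrthTrans.proj Q e₂ f₂ v), polar Q f₂ v, polar Q e₂ v, ?_⟩
    conv_rhs => rw [OrthTrans.proj]
    generalize polar Q f₁ (OrthTrans.proj Q e₂ f₂ v) = a
    generalize polar Q e₁ (OrthTrans.proj Q e₂ f₂ v) = b
    rw [OrthTrans.proj]
    module

theorem fund_mul_self {z : ↥(E Q)} (h : Fund Q z) : z * z = 1 := by
  obtain ⟨e₁, f₁, e₂, f₂, h, z1, z2, z3, z4, hz⟩ := h
  refine Subtype.ext (LinearEquiv.ext fun v => ?_)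
  show ap z (ap z v) = v
  obtain ⟨v', hv', a, b, c, d, rfl⟩ := exists_four_comb h v
  have hz' := hz v' hv'.1 hv'.2.1 hv'.2.2.1 hv'.2.2.2
  simp only [ap_add, ap_smul, hz', z1, z2, z3, z4, smul_neg, ap_neg, neg_neg]

variable (h2 : (2 : F) ≠ 0)

include h2

theorem Vm_of_fund {z : ↥(E Q)} {e₁ f₁ e₂ f₂ : V} (h : Four Q e₁ f₁ e₂ f₂) (z1 : ap z e₁ = -e₁) (z2 : ap z f₁ = -f₁)
    (z3 : ap z e₂ = -e₂) (z4 : ap z f₂ = -f₂)
    (hz : ∀ v, polar Q e₁ v = 0 → polar Q f₁ v = 0 → polar Q e₂ v = 0 → polar Q f₂ v = 0 → ap z v = v) :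
    Vm z = Submodule.span F (Set.range ![e₁, f₁, e₂, f₂]) := by
  have m1 : e₁ ∈ Submodule.span F (Set.range ![e₁, f₁, e₂, f₂]) := Submodule.subset_span ⟨0, rfl⟩
  have m2 : f₁ ∈ Submodule.span F (Set.range ![e₁, f₁, e₂, f₂]) := Submodule.subset_span ⟨1, rfl⟩
  have m3 : e₂ ∈ Submodule.span F (Set.range ![e₁, f₁, e₂, f₂]) := Submodule.subset_span ⟨2, rfl⟩
  have m4 : f₂ ∈ Submodule.span F (Set.range ![e₁, f₁, e₂, f₂]) := Submodule.subset_span ⟨3, rfl⟩
  apply le_antisymm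
  · intro v hv
    rw [mem_Vm] at hv
    obtain ⟨v', hv', a, b, c, d, rfl⟩ := exists_four_comb h v
    have hz' := hz v' hv'.1 hv'.2.1 hv'.2.2.1 hv'.2.2.2
    simp only [ap_add, ap_smul, hz', z1, z2, z3, z4, smul_neg] at hv
    have h3 : (2 : F) • v' = 0 := by
      rw [two_smul]
      have h4 := congrArg (fun w => w + (v' + a • e₁ + b • f₁ + c • e₂ + d • f₂)) hv
      simp only [neg_add_cancel] at h4
      rw [← h4]
      abel
    have h4 : v' = 0 := (smul_eq_zero.1 h3).resolve_left h2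
    rw [h4, zero_add]
    exact add_mem (add_mem (add_mem (Submodule.smul_mem _ _ m1) (Submodule.smul_mem _ _ m2))
      (Submodule.smul_mem _ _ m3)) (Submodule.smul_mem _ _ m4)
  · rw [Submodule.span_le]
    rintro _ ⟨i, rfl⟩
    fin_cases i
    · exact mem_Vm.2 z1
    · exact mem_Vm.2 z2
    · exact mem_Vm.2 z3
    · exact mem_Vm.2 z4

theorem finrank_Vm_of_fund {z : ↥(E Q)} (h : Fund Q z) : finrank F (Vm z) = 4 := by
  obtain ⟨e₁, f₁, e₂, f₂, h, z1, z2, z3, z4, hz⟩ := h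
  rw [Vm_of_fund h2 h z1 z2 z3 z4 hz, finrank_span_eq_card (linInd_four h), Fintype.card_fin]

/-- fundamental involutions are the involutions whose `-1` space has dimension `4` -/
theorem fund_iff [Finite F] [FiniteDimensional F V] (hG : Good Q) {g : ↥(E Q)} :
    Fund Q g ↔ g * g = 1 ∧ finrank F (Vm g) = 4 :=
  ⟨fun h => ⟨fund_mul_self h, finrank_Vm_of_fund h2 h⟩, fun h => fund_of_finrank h2 hG h.1 h.2⟩

/-- fundamental involutions are conjugate -/
theorem isConj_of_fund [Finite F] [FiniteDimensional F V] (hG : Good Q) {z z' : ↥(E Q)} (h : Fund Q z)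
    (h' : Fund Q z') : IsConj z z' :=
  isConj_of_finrank h2 hG (fund_mul_self h) (fund_mul_self h')
    (by rw [finrank_Vm_of_fund h2 h, finrank_Vm_of_fund h2 h'])

theorem exists_conj_of_fund [Finite F] [FiniteDimensional F V] (hG : Good Q) {z z' : ↥(E Q)} (h : Fund Q z)
    (h' : Fund Q z') : ∃ g : ↥(E Q), g * z * g⁻¹ = z' :=
  isConj_iff.1 (isConj_of_fund h2 hG h h')

end Cfsg.Agent.H325.IF
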